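import Groth.Agent.EtLamFinLib.Bridge
import Groth.Agent.EtShLib.CechColim
import Groth.Agent.EtShLib.Compact
import Groth.Agent.ModGenLib.Free
import Mathlib.Algebra.Module.ZMod
import Mathlib.LinearAlgebra.FreeModule.Basic
import Mathlib.CategoryTheory.Limits.Constructions.Filtered

/-! Finite generation of the cohomology of `j_!` of a free module killed by a prime. -/

set_option autoImplicit false
set_option linter.unusedSectionVars false
set_option linter.style.haveILetI false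
set_option backward.isDefEq.respectTransparency false
set_option backward.isDefEq.respectTransparency.types false
set_option maxHeartbeats 1000000
set_option synthInstance.maxHeartbeats 400000

universe u

open CategoryTheory CategoryTheory.Limits AlgebraicGeometry Opposite Groth.Agent.EtShLib
open Groth.Agent.ModGenLib (freeSh gen)

namespace Groth.Agent.EtLamFinLib

variable {Λ : Type} [CommRing Λ] {X : Scheme.{u}}

/-- The cohomology of a sheaf of modules is finitely generated in degree `q`. -/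
def FinH (F : EtModW.Mod (R.{u} Λ) X) (q : ℕ) : Prop :=
  @Module.Finite Λ (EtCoh.H X ((fw Λ X).obj F) q) _ _ (EtLam.moduleH (ofMod F) q)

theorem HF_map_apply {F G : EtCoh.Ab X} (f : F ⟶ G) (q : ℕ) (x : EtCoh.H X F q) :
    (EtCoh.HF X q).map f x = Sheaf.H.map f q x := rfl

theorem H_map_zero {F G : EtCoh.Ab X} (q : ℕ) (x : EtCoh.H X F q) :
    Sheaf.H.map (0 : F ⟶ G) q x = 0 := by
  change ((Sheaf.functorH _ q).map (0 : F ⟶ G)).hom x = 0
  rw [Functor.map_zero]
  rfl

theorem H_map_sum {F G : EtCoh.Ab X} {ι : Type*} (s : Finset ι) (f : ι → (F ⟶ G)) (q : ℕ) (x : EtCoh.H X F q) :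
    Sheaf.H.map (∑ i ∈ s, f i) q x = ∑ i ∈ s, Sheaf.H.map (f i) q x := by
  classical
  induction s using Finset.induction with
  | empty => rw [Finset.sum_empty, Finset.sum_empty]; exact H_map_zero q x
  | insert a t ha ih => rw [Finset.sum_insert ha, Finset.sum_insert ha, Sheaf.H.map_add_apply, ih]

/-- Cohomology of a direct sum is generated by the cohomology of the summands. -/
theorem mem_closure_coprod [CompactSpace X] [QuasiSeparatedSpace X] {B : Type u} (E : EtCoh.Ab X) (q : ℕ)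
    (y : EtCoh.H X (∐ fun _ : B => E) q) :
    y ∈ AddSubgroup.closure {z | ∃ (b : B) (x : EtCoh.H X E q), Sheaf.H.map (Sigma.ι (fun _ : B => E) b) q x = z} := by
  classical
  let c := CoproductsFromFiniteFiltered.finiteSubcoproductsCocone (fun _ : B => E)
  have hc : IsColimit c := CoproductsFromFiniteFiltered.isColimitFiniteSubproductsCocone _
  haveI := Groth.Agent.EtShLib.preservesFilteredColimits_H (X := X) q (Finset (Discrete B))
  obtain ⟨S, x, rfl⟩ := Concrete.isColimit_exists_rep _ (isColimitOfPreserves (EtCoh.HF X q) hc) y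
  let f : ↥S → EtCoh.Ab X := fun _ => E
  have hid : 𝟙 (∐ f) = ∑ s : ↥S, (Sigma.desc fun t : ↥S => if t = s then 𝟙 E else 0) ≫ Sigma.ι f s := by
    refine Sigma.hom_ext _ _ fun t => ?_
    rw [Category.comp_id, Preadditive.comp_sum, Finset.sum_eq_single t]
    · rw [Sigma.ι_desc_assoc, if_pos rfl, Category.id_comp]
    · intro s _ hs
      rw [Sigma.ι_desc_assoc, if_neg hs.symm, zero_comp]
    · intro h
      exact absurd (Finset.mem_univ t) h
  have hx : ((EtCoh.HF X q).map (c.ι.app S)) x = Sheaf.H.map (c.ι.app S) q (Sheaf.H.map (𝟙 (∐ f)) q x) :=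
    congrArg (Sheaf.H.map (c.ι.app S) q) (Sheaf.H.map_id_apply (F := ∐ f) x).symm
  show (EtCoh.HF X q).map (c.ι.app S) x ∈ _
  rw [hx, hid, H_map_sum, map_sum]
  refine sum_mem fun s _ => AddSubgroup.subset_closure ?_
  refine ⟨(s.1 : Discrete B).as, Sheaf.H.map (Sigma.desc fun t : ↥S => if t = s then 𝟙 E else 0) q x, ?_⟩
  refine ((Sheaf.H.map_comp_apply _ _ _).symm.trans ?_).trans (Sheaf.H.map_comp_apply _ _ _)
  congr 2
  rw [Category.assoc]
  congr 1
  exact (Sigma.ι_desc (f := f) (fun t : ↥S => Sigma.ι (fun _ : B => E) (t.1 : Discrete B).as) s).symm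

variable (Λ) in
/-- `j_!` of the free module with `p` killed. -/
noncomputable def pFree (p : ℕ) (U : X.Etale) : EtModW.Mod (R.{u} Λ) X :=
  cokernel (p • 𝟙 (freeSh (R.{u} Λ) U))

variable (Λ) in
/-- Its tautological section. -/
noncomputable def pGen (p : ℕ) (U : X.Etale) : (pFree Λ p U).obj.obj (op U) :=
  (cokernel.π (p • 𝟙 (freeSh (R.{u} Λ) U))).hom.app (op U) (gen (R.{u} Λ) U)

theorem pFree_killed (p : ℕ) (U : X.Etale) : p • 𝟙 (pFree Λ p U) = 0 := by
  rw [pFree, ← cancel_epi (cokernel.π (p • 𝟙 (freeSh (R.{u} Λ) U))), comp_zero, Preadditive.comp_nsmul,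
    Category.comp_id]
  have h := cokernel.condition (p • 𝟙 (freeSh (R.{u} Λ) U))
  rwa [Preadditive.nsmul_comp, Category.id_comp] at h

theorem nsmul_app {A B : EtModW.Mod (R.{u} Λ) X} (f : A ⟶ B) (n : ℕ) (U : X.Etaleᵒᵖ) (x : A.obj.obj U) :
    (n • f).hom.app U x = n • f.hom.app U x := by
  induction n with
  | zero => rw [zero_nsmul, zero_nsmul]; rfl
  | succ n ih => rw [succ_nsmul, succ_nsmul, ← ih]; rfl

theorem sect_killed {N : EtModW.Mod (R.{u} Λ) X} {p : ℕ} (hN : p • 𝟙 N = 0) (U : X.Etaleᵒᵖ) (x : N.obj.obj U) :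
    p • x = 0 :=
  (nsmul_app (𝟙 N) p U x).symm.trans (congrArg (fun t : N ⟶ N => t.hom.app U x) hN)

theorem exists_pFree_hom {N : EtModW.Mod (R.{u} Λ) X} {p : ℕ} {U : X.Etale} (s : N.obj.obj (op U)) (hs : p • s = 0) :
    ∃ a : pFree Λ p U ⟶ N, a.hom.app (op U) (pGen Λ p U) = s := by
  obtain ⟨a, ha⟩ := ModGenLib.exists_hom (Λ := R.{u} Λ) (U := U) s
  refine ⟨cokernel.desc _ a (ModGenLib.hom_ext ?_), ?_⟩
  · rw [Preadditive.nsmul_comp, Category.id_comp, nsmul_app, ha, hs]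
    rfl
  · exact (congrArg (fun t : freeSh (R.{u} Λ) U ⟶ N => t.hom.app (op U) (gen (R.{u} Λ) U))
      (cokernel.π_desc (p • 𝟙 (freeSh (R.{u} Λ) U)) a _)).trans ha

theorem pFree_hom_ext {N : EtModW.Mod (R.{u} Λ) X} {p : ℕ} {U : X.Etale} {a b : pFree Λ p U ⟶ N}
    (h : a.hom.app (op U) (pGen Λ p U) = b.hom.app (op U) (pGen Λ p U)) : a = b :=
  (cancel_epi (cokernel.π (p • 𝟙 (freeSh (R.{u} Λ) U)))).1 (ModGenLib.hom_ext h)

theorem hom_killed_of_source {A B : EtCoh.Ab X} {p : ℕ} (h : p • 𝟙 A = 0) (f : A ⟶ B) : p • f = 0 := by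
  rw [← Category.id_comp f, ← Preadditive.nsmul_comp, h, zero_comp]

theorem nsmul_id_extConst' (U : X.Etale) (n : ℕ) [NeZero n] : n • 𝟙 (EtPBC.extZeroConst U (ZMod n)) = 0 := by
  refine extConst_hom_ext_gen U n ?_
  have key : ∀ (m : ℕ) (x : (EtPBC.extZeroConst U (ZMod n)).obj.obj (op U)),
      (m • 𝟙 (EtPBC.extZeroConst U (ZMod n))).hom.app (op U) x = m • x := by
    intro m x
    induction m with
    | zero => rw [zero_nsmul, zero_nsmul]; rfl
    | succ m ih => rw [succ_nsmul, succ_nsmul, ← ih]; rfl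
  rw [key]
  exact nsmul_genSec U n

theorem exists_basis_type {p : ℕ} [Fact p.Prime] (Q : Type) [CommRing Q] [Module (ZMod p) Q] :
    ∃ κ : Type, Nonempty (Module.Basis κ (ZMod p) Q) :=
  ⟨_, ⟨Module.Basis.ofVectorSpace (ZMod p) Q⟩⟩

theorem addHom_ext_basis {p : ℕ} [NeZero p] {Q N : Type*} [AddCommGroup Q] [Module (ZMod p) Q] [AddCommGroup N]
    {κ : Type*} (b : Module.Basis κ (ZMod p) Q) {f g : Q →+ N} (h : ∀ i, f (b i) = g (b i)) : f = g := by
  ext x
  induction b.mem_span x using Submodule.span_induction with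
  | mem y hy => obtain ⟨i, rfl⟩ := hy; exact h i
  | zero => rw [map_zero, map_zero]
  | add y z _ _ hy hz => rw [map_add, map_add, hy, hz]
  | smul c y _ hy =>
    obtain ⟨k, rfl⟩ : ∃ k : ℕ, (k : ZMod p) = c := ⟨c.val, ZMod.natCast_zmod_val c⟩
    rw [Nat.cast_smul_eq_nsmul, map_nsmul, map_nsmul, hy]

/-- The scalar action on copies of `E` indexed by a basis of a quotient ring killed by `p`. -/
theorem exists_action {p : ℕ} [NeZero p] {Q : Type} [CommRing Q] [Module (ZMod p) Q] (π : Λ →+* Q) {κ : Type}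
    (b : Module.Basis κ (ZMod p) Q) {E : EtCoh.Ab X} (hE : p • 𝟙 E = 0)
    [HasCoproduct (fun _ : ULift.{u} κ => E)] :
    ∃ (ψ : Q →+ (E ⟶ ∐ fun _ : ULift.{u} κ => E)) (ρ : Λ →+* End (∐ fun _ : ULift.{u} κ => E)),
      (∀ i, ψ (b i) = Sigma.ι (fun _ : ULift.{u} κ => E) ⟨i⟩) ∧ ∀ r x, ψ x ≫ ρ r = ψ (π r * x) := by
  classical
  let ι : κ → (E ⟶ ∐ fun _ : ULift.{u} κ => E) := fun i => Sigma.ι (fun _ : ULift.{u} κ => E) ⟨i⟩
  let e : κ → (ZMod p →+ (E ⟶ ∐ fun _ : ULift.{u} κ => E)) := fun i =>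
    ZMod.lift p ⟨zmultiplesHom _ (ι i), by
      show ((p : ℤ)) • ι i = 0
      rw [natCast_zsmul]
      exact hom_killed_of_source hE _⟩
  let ψ : Q →+ (E ⟶ ∐ fun _ : ULift.{u} κ => E) :=
    (Finsupp.liftAddHom e).comp b.repr.toAddEquiv.toAddMonoidHom
  have hψ : ∀ i, ψ (b i) = ι i := fun i => by
    show Finsupp.liftAddHom e (b.repr (b i)) = ι i
    rw [b.repr_self, Finsupp.liftAddHom_apply_single, ← Int.cast_one (R := ZMod p)]
    simp only [e, ZMod.lift_coe]
    simp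
  let T : Λ → ((∐ fun _ : ULift.{u} κ => E) ⟶ ∐ fun _ : ULift.{u} κ => E) :=
    fun r => Sigma.desc fun i => ψ (π r * b i.down)
  have hT : ∀ (r : Λ) (x : Q), ψ x ≫ T r = ψ (π r * x) := by
    intro r x
    let f₁ : Q →+ (E ⟶ ∐ fun _ : ULift.{u} κ => E) :=
      { toFun := fun x => ψ x ≫ T r
        map_zero' := by rw [map_zero, zero_comp]
        map_add' := fun a a' => by rw [map_add, Preadditive.add_comp] }
    have h : f₁ = ψ.comp (AddMonoidHom.mulLeft (π r)) := addHom_ext_basis b fun i => by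
      show ψ (b i) ≫ T r = ψ (π r * b i)
      rw [hψ]
      exact Sigma.ι_desc _ (⟨i⟩ : ULift.{u} κ)
    exact DFunLike.congr_fun h x
  have T_ext : ∀ {f g : (∐ fun _ : ULift.{u} κ => E) ⟶ ∐ fun _ : ULift.{u} κ => E},
      (∀ i, ψ (b i) ≫ f = ψ (b i) ≫ g) → f = g := fun {f g} h =>
    Sigma.hom_ext _ _ fun i => by simpa [hψ, ι] using h i.down
  refine ⟨ψ, { toFun := T, map_one' := ?_, map_mul' := ?_, map_zero' := ?_, map_add' := ?_ }, hψ, hT⟩
  · exact T_ext fun i => by rw [hT, map_one, one_mul, End.one_def, Category.comp_id]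
  · exact fun r s => T_ext fun i => by rw [hT, End.mul_def, ← Category.assoc, hT, hT, π.map_mul, mul_assoc]
  · exact T_ext fun i => by rw [hT, map_zero, zero_mul, map_zero]; exact comp_zero.symm
  · exact fun r s => T_ext fun i => by rw [hT, Preadditive.comp_add, hT, hT, map_add, add_mul, map_add]

theorem exists_split_aux (p : ℕ) [Fact p.Prime] (U : X.Etale) {Q : Type} [CommRing Q] [Module (ZMod p) Q]
    (π : Λ →+* Q) (hπ : Function.Surjective π) (hker : ∀ r, π r = 0 → r ∈ Ideal.span {(p : Λ)})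
    {κ : Type} (b : Module.Basis κ (ZMod p) Q) :
    ∃ (B : Type u) (c : B → Λ) (v : EtPBC.extZeroConst U (ZMod p) ⟶ (fw Λ X).obj (pFree Λ p U))
      (σ : (fw Λ X).obj (pFree Λ p U) ⟶ ∐ fun _ : B => EtPBC.extZeroConst U (ZMod p)),
      σ ≫ Sigma.desc (fun b => v ≫ actMod (pFree Λ p U) (c b)) = 𝟙 _ := by
  classical
  have hE : p • 𝟙 (EtPBC.extZeroConst U (ZMod p)) = 0 := nsmul_id_extConst' U p
  obtain ⟨ψ, ρ, hψ, hT⟩ := exists_action π b hE
  obtain ⟨v, hv⟩ := exists_hom_of_torsion (F := (fw Λ X).obj (pFree Λ p U)) U p (pGen Λ p U)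
    (sect_killed (pFree_killed p U) (op U) _)
  let a₀ : Λ →+ (EtPBC.extZeroConst U (ZMod p) ⟶ (fw Λ X).obj (pFree Λ p U)) :=
    { toFun := fun r => v ≫ actMod (pFree Λ p U) r
      map_zero' := by rw [map_zero]; exact comp_zero
      map_add' := fun r s => by rw [map_add]; exact Preadditive.comp_add _ _ _ _ _ _ }
  have ha₀ : ∀ r, π r = 0 → a₀ r = 0 := by
    intro r hr
    obtain ⟨d, rfl⟩ := Ideal.mem_span_singleton.1 (hker r hr)
    rw [← nsmul_eq_mul, map_nsmul]
    exact hom_killed_of_source hE _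
  let a : Q →+ (EtPBC.extZeroConst U (ZMod p) ⟶ (fw Λ X).obj (pFree Λ p U)) :=
    π.toAddMonoidHom.liftOfSurjective hπ ⟨a₀, ha₀⟩
  have ha : ∀ r, a (π r) = a₀ r := π.toAddMonoidHom.liftOfRightInverse_comp_apply _ _ ⟨a₀, ha₀⟩
  choose c hc using fun i : ULift.{u} κ => hπ (b i.down)
  let δ := Sigma.desc fun i : ULift.{u} κ => v ≫ actMod (pFree Λ p U) (c i)
  have hδψ : ∀ x, ψ x ≫ δ = a x := by
    intro x
    let f₁ : Q →+ (EtPBC.extZeroConst U (ZMod p) ⟶ (fw Λ X).obj (pFree Λ p U)) :=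
      { toFun := fun x => ψ x ≫ δ
        map_zero' := by rw [map_zero, zero_comp]
        map_add' := fun a a' => by rw [map_add, Preadditive.add_comp] }
    have h : f₁ = a := addHom_ext_basis b fun i => by
      show ψ (b i) ≫ δ = a (b i)
      rw [hψ, ← hc ⟨i⟩, ha]
      exact Sigma.ι_desc _ (⟨i⟩ : ULift.{u} κ)
    exact DFunLike.congr_fun h x
  have hequiv : ∀ r : Λ, actMod (toMod ⟨_, ρ⟩) r ≫ δ = δ ≫ actMod (pFree Λ p U) r := by
    intro r
    show ρ r ≫ δ = _
    refine Sigma.hom_ext _ _ fun i => ?_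
    have hi : Sigma.ι (fun _ : ULift.{u} κ => EtPBC.extZeroConst U (ZMod p)) i = ψ (b i.down) := (hψ i.down).symm
    rw [hi, ← Category.assoc, ← Category.assoc, hT, hδψ, hδψ, ← hc i, ← π.map_mul, ha, ha]
    show v ≫ actMod (pFree Λ p U) (r * c i) = (v ≫ actMod (pFree Λ p U) (c i)) ≫ actMod (pFree Λ p U) r
    rw [map_mul, End.mul_def, Category.assoc]
  obtain ⟨s, hs⟩ := exists_pFree_hom (Λ := Λ) (N := toMod ⟨_, ρ⟩) (p := p) (U := U)
    ((ψ 1).hom.app (op U) (genSec U p)) (by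
      show p • (ψ 1).hom.app (op U) (genSec U p) = 0
      rw [← map_nsmul, nsmul_genSec, map_zero])
  refine ⟨_, c, v, (fw Λ X).map s, ?_⟩
  show (fw Λ X).map s ≫ (fw Λ X).map (homOfEquivariant δ hequiv) = _
  rw [← Functor.map_comp, show s ≫ homOfEquivariant δ hequiv = 𝟙 _ from pFree_hom_ext ?_,
    CategoryTheory.Functor.map_id]
  show δ.hom.app (op U) (s.hom.app (op U) (pGen Λ p U)) = pGen Λ p U
  rw [hs]
  show (ψ 1 ≫ δ).hom.app (op U) (genSec U p) = _
  rw [hδψ, ← map_one π, ha]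
  show (v ≫ actMod _ 1).hom.app (op U) (genSec U p) = _
  rw [map_one]
  exact hv

/-- The free module killed by `p` is, as an abelian sheaf, a direct summand of copies of `j_! ℤ/p`. -/
theorem exists_split (p : ℕ) [Fact p.Prime] (U : X.Etale) :
    ∃ (B : Type u) (c : B → Λ) (v : EtPBC.extZeroConst U (ZMod p) ⟶ (fw Λ X).obj (pFree Λ p U))
      (σ : (fw Λ X).obj (pFree Λ p U) ⟶ ∐ fun _ : B => EtPBC.extZeroConst U (ZMod p)),
      σ ≫ Sigma.desc (fun b => v ≫ actMod (pFree Λ p U) (c b)) = 𝟙 _ := by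
  have hQ : ∀ x : Λ ⧸ Ideal.span {(p : Λ)}, p • x = 0 := fun x => by
    obtain ⟨x, rfl⟩ := Ideal.Quotient.mk_surjective x
    rw [← map_nsmul, nsmul_eq_mul]
    exact Ideal.Quotient.eq_zero_iff_mem.2 ((Ideal.span {(p : Λ)}).mul_mem_right x (Ideal.subset_span rfl))
  letI : Module (ZMod p) (Λ ⧸ Ideal.span {(p : Λ)}) := AddCommGroup.zmodModule hQ
  obtain ⟨κ, ⟨b⟩⟩ := exists_basis_type (p := p) (Λ ⧸ Ideal.span {(p : Λ)})
  exact exists_split_aux p U (Ideal.Quotient.mk _) Ideal.Quotient.mk_surjective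
    (fun r hr => Ideal.Quotient.eq_zero_iff_mem.1 hr) b

/-- The cohomology of `j_!` of the free module killed by a prime is finitely generated. -/
theorem finite_H_pFree [CompactSpace X] [QuasiSeparatedSpace X] (p : ℕ) [Fact p.Prime] (U : X.Etale) (q : ℕ)
    [Finite (EtCoh.H X (EtPBC.extZeroConst U (ZMod p)) q)] :
    FinH (pFree Λ p U) q := by
  classical
  obtain ⟨B, c, v, σ, hσ⟩ := exists_split (Λ := Λ) p U
  letI := EtLam.moduleH (ofMod (pFree Λ p U)) q
  show Module.Finite Λ (EtCoh.H X ((fw Λ X).obj (pFree Λ p U)) q)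
  let S : Set (EtCoh.H X ((fw Λ X).obj (pFree Λ p U)) q) := Set.range (Sheaf.H.map v q)
  refine ⟨⟨(Set.finite_range (Sheaf.H.map v q)).toFinset, eq_top_iff.2 fun x _ => ?_⟩⟩
  rw [Set.Finite.coe_toFinset]
  let δ := Sigma.desc (fun b => v ≫ actMod (pFree Λ p U) (c b))
  have hx : x = Sheaf.H.map δ q (Sheaf.H.map σ q x) := by
    rw [← Sheaf.H.map_comp_apply, hσ, Sheaf.H.map_id_apply]
  rw [hx]
  have key : ∀ y ∈ AddSubgroup.closure {z | ∃ (b : B) (e : EtCoh.H X (EtPBC.extZeroConst U (ZMod p)) q),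
      Sheaf.H.map (Sigma.ι (fun _ : B => EtPBC.extZeroConst U (ZMod p)) b) q e = z},
      Sheaf.H.map δ q y ∈ Submodule.span Λ S := by
    intro y hy
    induction hy using AddSubgroup.closure_induction with
    | mem z hz =>
      obtain ⟨b, e, rfl⟩ := hz
      rw [← Sheaf.H.map_comp_apply, Sigma.ι_desc, Sheaf.H.map_comp_apply]
      exact Submodule.smul_mem _ (c b) (Submodule.subset_span ⟨e, rfl⟩)
    | zero => rw [map_zero]; exact zero_mem _
    | add a a' _ _ h h' => rw [map_add]; exact add_mem h h'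
    | neg a _ h => rw [map_neg]; exact neg_mem h
  exact key _ (mem_closure_coprod _ q _)

end Groth.Agent.EtLamFinLib
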