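import Groth.Agent.EtLamFinLib.Gen
import Groth.Agent.EtLamFinLib.Core
import Groth.Agent.ModGenLib.NoethObj
import Groth.Agent.EtShLib.ExtConst
import Groth.Agent.EtShLib.NoethCons
import Groth.Agent.S0206
import Groth.Agent.S0171

/-! Finite generation of the cohomology of constructible sheaves of modules on curves. -/

set_option autoImplicit false
set_option linter.unusedSectionVars false
set_option linter.style.haveILetI false
set_option backward.isDefEq.respectTransparency false
set_option backward.isDefEq.respectTransparency.types false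
set_option maxHeartbeats 1000000
set_option synthInstance.maxHeartbeats 400000

universe u

open CategoryTheory CategoryTheory.Limits AlgebraicGeometry Opposite Groth.Agent.EtShLib
open CategoryTheory.Abelian (Ext)
open Groth.Agent.ModGenLib (freeSh gen)

namespace Groth.Agent.EtLamFinLib

attribute [local instance] CategoryTheory.Abelian.hasFiniteBiproducts

variable {Λ : Type} [CommRing Λ] {X : Scheme.{u}}

theorem isNoetherianRing_R [IsNoetherianRing Λ] : IsNoetherianRing (R.{u} Λ) :=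
  isNoetherianRing_of_ringEquiv Λ ULift.ringEquiv.symm

/-- A map of sheaves of modules, as a linear map on cohomology. -/
noncomputable def Hl {F G : EtModW.Mod (R.{u} Λ) X} (a : F ⟶ G) (q : ℕ) :
    letI := EtLam.moduleH (ofMod F) q
    letI := EtLam.moduleH (ofMod G) q
    EtCoh.H X ((fw Λ X).obj F) q →ₗ[Λ] EtCoh.H X ((fw Λ X).obj G) q :=
  letI := EtLam.moduleH (ofMod F) q
  letI := EtLam.moduleH (ofMod G) q
  { toFun := fun x => Sheaf.H.map ((fw Λ X).map a) q x
    map_add' := fun x y => map_add _ x y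
    map_smul' := fun r x => by
      show Sheaf.H.map ((fw Λ X).map a) q (Sheaf.H.map (actMod F r) q x) =
        Sheaf.H.map (actMod G r) q (Sheaf.H.map ((fw Λ X).map a) q x)
      rw [← Sheaf.H.map_comp_apply, ← Sheaf.H.map_comp_apply, fw_map_actMod] }

/-- The middle term of a short exact sequence. -/
theorem finH_middle [IsNoetherianRing Λ] {S : ShortComplex (EtModW.Mod (R.{u} Λ) X)} (hS : S.ShortExact) (q : ℕ)
    (h1 : FinH S.X₁ q) (h3 : FinH S.X₃ q) : FinH S.X₂ q := by
  letI := EtLam.moduleH (ofMod S.X₁) q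
  letI := EtLam.moduleH (ofMod S.X₂) q
  letI := EtLam.moduleH (ofMod S.X₃) q
  haveI : Module.Finite Λ (EtCoh.H X ((fw Λ X).obj S.X₁) q) := h1
  haveI : Module.Finite Λ (EtCoh.H X ((fw Λ X).obj S.X₃) q) := h3
  have hex : LinearMap.ker (Hl S.g q) ≤ LinearMap.range (Hl S.f q) := fun x hx =>
    Ext.covariant_sequence_exact₂ _ (fw_map_shortExact hS) x hx
  show Module.Finite Λ (EtCoh.H X ((fw Λ X).obj S.X₂) q)
  refine ⟨Submodule.fg_of_fg_map_of_fg_inf_ker (Hl S.g q) (IsNoetherian.noetherian _) ?_⟩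
  haveI : Module.Finite Λ ↥(LinearMap.range (Hl S.f q)) := inferInstance
  haveI : IsNoetherian Λ ↥(LinearMap.range (Hl S.f q)) := isNoetherian_of_isNoetherianRing_of_finite _ _
  rw [top_inf_eq]
  exact isNoetherian_submodule.mp inferInstance _ hex

/-- The cokernel term of a short exact sequence. -/
theorem finH_right [IsNoetherianRing Λ] {S : ShortComplex (EtModW.Mod (R.{u} Λ) X)} (hS : S.ShortExact) (q : ℕ)
    (h2 : FinH S.X₂ q) (h1 : FinH S.X₁ (q + 1)) : FinH S.X₃ q := by
  letI := EtLam.moduleH (ofMod S.X₂) q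
  letI := EtLam.moduleH (ofMod S.X₃) q
  letI := EtLam.moduleH (ofMod S.X₁) (q + 1)
  haveI : Module.Finite Λ (EtCoh.H X ((fw Λ X).obj S.X₂) q) := h2
  haveI : Module.Finite Λ (EtCoh.H X ((fw Λ X).obj S.X₁) (q + 1)) := h1
  let hS' := fw_map_shortExact hS
  let δ : EtCoh.H X ((fw Λ X).obj S.X₃) q →ₗ[Λ] EtCoh.H X ((fw Λ X).obj S.X₁) (q + 1) :=
    { toFun := fun x => Ext.comp x hS'.extClass rfl
      map_add' := fun x y => Ext.add_comp _ _ _ _
      map_smul' := fun r x => extClass_act hS r x }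
  have hex : LinearMap.ker δ ≤ LinearMap.range (Hl S.g q) := fun x hx =>
    Ext.covariant_sequence_exact₃ _ hS' x rfl hx
  show Module.Finite Λ (EtCoh.H X ((fw Λ X).obj S.X₃) q)
  haveI : IsNoetherian Λ (EtCoh.H X ((fw Λ X).obj S.X₁) (q + 1)) := isNoetherian_of_isNoetherianRing_of_finite _ _
  refine ⟨Submodule.fg_of_fg_map_of_fg_inf_ker δ (IsNoetherian.noetherian _) ?_⟩
  haveI : Module.Finite Λ ↥(LinearMap.range (Hl S.g q)) := inferInstance
  haveI : IsNoetherian Λ ↥(LinearMap.range (Hl S.g q)) := isNoetherian_of_isNoetherianRing_of_finite _ _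
  rw [top_inf_eq]
  exact isNoetherian_submodule.mp inferInstance _ hex
where
  extClass_act {S : ShortComplex (EtModW.Mod (R.{u} Λ) X)} (hS : S.ShortExact) (r : Λ) {q : ℕ}
      (x : EtCoh.H X ((fw Λ X).obj S.X₃) q) :
      Ext.comp (Sheaf.H.map (actMod S.X₃ r) q x) (fw_map_shortExact hS).extClass rfl =
        Sheaf.H.map (actMod S.X₁ r) (q + 1) (Ext.comp x (fw_map_shortExact hS).extClass rfl) := by
    let φ : S.map (fw Λ X) ⟶ S.map (fw Λ X) :=
      ShortComplex.homMk (actMod S.X₁ r) (actMod S.X₂ r) (actMod S.X₃ r) (fw_map_actMod S.f r) (fw_map_actMod S.g r)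
    rw [Sheaf.H.map_apply, Sheaf.H.map_apply]
    have hn : (fw_map_shortExact hS).extClass.comp (Ext.mk₀ (actMod S.X₁ r)) (add_zero 1) =
        (Ext.mk₀ (actMod S.X₃ r)).comp (fw_map_shortExact hS).extClass (zero_add 1) :=
      ShortComplex.ShortExact.extClass_naturality (h₁ := fw_map_shortExact hS) (h₂ := fw_map_shortExact hS) φ
    exact (Ext.comp_assoc_of_second_deg_zero _ _ _ _).trans ((congrArg (fun t => Ext.comp x t rfl) hn.symm).trans
      (Ext.comp_assoc_of_third_deg_zero _ _ _ _).symm)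

theorem finH_of_subsingleton (F : EtModW.Mod (R.{u} Λ) X) (q : ℕ)
    (h : Subsingleton (EtCoh.H X ((fw Λ X).obj F) q)) : FinH F q := by
  letI := EtLam.moduleH (ofMod F) q
  haveI := h
  show Module.Finite Λ (EtCoh.H X ((fw Λ X).obj F) q)
  infer_instance

theorem finH_biproduct {a : ℕ} (G : Fin a → EtModW.Mod (R.{u} Λ) X) (q : ℕ) (h : ∀ i, FinH (G i) q) :
    FinH (⨁ G) q := by
  classical
  letI := EtLam.moduleH (ofMod (⨁ G)) q
  letI := fun i => EtLam.moduleH (ofMod (G i)) q
  haveI : ∀ i, Module.Finite Λ (EtCoh.H X ((fw Λ X).obj (G i)) q) := h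
  show Module.Finite Λ (EtCoh.H X ((fw Λ X).obj (⨁ G)) q)
  let Φ : (∀ i, EtCoh.H X ((fw Λ X).obj (G i)) q) →ₗ[Λ] EtCoh.H X ((fw Λ X).obj (⨁ G)) q :=
    ∑ i, (Hl (biproduct.ι G i) q).comp (LinearMap.proj i)
  refine Module.Finite.of_surjective Φ fun x => ⟨fun i => Hl (biproduct.π G i) q x, ?_⟩
  simp only [Φ, LinearMap.sum_apply, LinearMap.comp_apply, LinearMap.proj_apply]
  show ∑ i, Sheaf.H.map ((fw Λ X).map (biproduct.ι G i)) q (Sheaf.H.map ((fw Λ X).map (biproduct.π G i)) q x) = x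
  simp only [← Sheaf.H.map_comp_apply, ← Functor.map_comp]
  rw [← H_map_sum, ← Functor.map_sum, biproduct.total, CategoryTheory.Functor.map_id, Sheaf.H.map_id_apply]

variable (X) in
/-- The two inputs: vanishing in high degree and finiteness for `j_! ℤ/p`. -/
structure Input (p : ℕ) : Prop where
  van : ∀ (F : EtCoh.Ab X), p • 𝟙 F = 0 → ∀ q, 3 ≤ q → Subsingleton (EtCoh.H X F q)
  fin : ∀ (U : X.Etale), IsAffine U.left → ∀ q, Finite (EtCoh.H X (EtPBC.extZeroConst U (ZMod p)) q)

theorem fw_killed {F : EtModW.Mod (R.{u} Λ) X} {p : ℕ} (h : p • 𝟙 F = 0) : p • 𝟙 ((fw Λ X).obj F) = 0 := by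
  rw [← CategoryTheory.Functor.map_id (fw Λ X), ← Functor.map_nsmul, h, Functor.map_zero]

theorem killed_of_mono {A B : EtModW.Mod (R.{u} Λ) X} (a : A ⟶ B) [Mono a] {p : ℕ} (h : p • 𝟙 B = 0) :
    p • 𝟙 A = 0 := by
  rw [← cancel_mono a, zero_comp, Preadditive.nsmul_comp, Category.id_comp, ← Category.comp_id a,
    ← Preadditive.comp_nsmul, h, comp_zero]

theorem killed_of_epi {A B : EtModW.Mod (R.{u} Λ) X} (a : A ⟶ B) [Epi a] {p : ℕ} (h : p • 𝟙 A = 0) :
    p • 𝟙 B = 0 := by
  rw [← cancel_epi a, comp_zero, Preadditive.comp_nsmul, Category.comp_id, ← Category.id_comp a,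
    ← Preadditive.nsmul_comp, h, zero_comp]

theorem finH_killed [IsNoetherianRing Λ] [IsNoetherian X] (p : ℕ) [Fact p.Prime] (hI : Input X p) :
    ∀ (d q : ℕ), 3 ≤ q + d → ∀ (F : EtModW.Mod (R.{u} Λ) X),
      IsCons (A := ModuleCat.{u + 1} (R.{u} Λ)) FinMP F → p • 𝟙 F = 0 → FinH F q := by
  haveI := isNoetherianRing_R (Λ := Λ)
  intro d
  induction d with
  | zero => exact fun q hq F _ hk => finH_of_subsingleton F q (hI.van _ (fw_killed hk) q (by omega))
  | succ d ih =>
    intro q hq F hF hk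
    obtain ⟨a, U, hU, w, hw⟩ := ModGenLib.exists_generators (𝟙 F) hF
    haveI : ∀ i, CompactSpace (U i).left := fun i => haveI := hU i; inferInstance
    haveI : ∀ i, QuasiSeparatedSpace (U i).left := fun i => haveI := hU i; inferInstance
    have hG : ∀ i, ∃ b : pFree Λ p (U i) ⟶ F,
        b.hom.app (op (U i)) (pGen Λ p (U i)) = (biproduct.ι _ i ≫ w).hom.app (op (U i)) (gen (R.{u} Λ) (U i)) :=
      fun i => exists_pFree_hom _ (sect_killed hk _ _)
    choose b hb using hG
    let P := fun i => pFree Λ p (U i)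
    let w' : ⨁ P ⟶ F := biproduct.desc b
    let π : (⨁ fun i => freeSh (R.{u} Λ) (U i)) ⟶ ⨁ P :=
      biproduct.map fun i => cokernel.π (p • 𝟙 (freeSh (R.{u} Λ) (U i)))
    have hfac : π ≫ w' = w := biproduct.hom_ext' _ _ fun i => by
      rw [biproduct.ι_map_assoc, biproduct.ι_desc]
      exact ModGenLib.hom_ext (hb i)
    haveI : Epi (w ≫ 𝟙 F) := hw
    haveI : Epi w := by rwa [Category.comp_id] at hw
    haveI : Epi (π ≫ w') := by rw [hfac]; infer_instance
    haveI : Epi w' := epi_of_epi π w'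
    have hP : IsCons (A := ModuleCat.{u + 1} (R.{u} Λ)) FinMP (⨁ P) :=
      ModGenLib.isCons_biproduct _ fun i => consMod_of_epi (cokernel.π (p • 𝟙 (freeSh (R.{u} Λ) (U i))))
        (ModGenLib.isCons (R.{u} Λ) (U i))
    have hPk : p • 𝟙 (⨁ P) = 0 := biproduct.hom_ext' _ _ fun i => by
      rw [comp_zero, Preadditive.comp_nsmul, Category.comp_id, ← Category.id_comp (biproduct.ι P i),
        ← Preadditive.nsmul_comp, pFree_killed, zero_comp]
    let S := ShortComplex.mk (kernel.ι w') w' (kernel.condition w')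
    have hS : S.ShortExact := ⟨ShortComplex.exact_of_f_is_kernel S (kernelIsKernel w')⟩
    refine finH_right hS q (finH_biproduct P q fun i => ?_)
      (ih (q + 1) (by omega) (kernel w') (consMod_of_mono (kernel.ι w') hP) (killed_of_mono (kernel.ι w') hPk))
    haveI := hI.fin (U i) (hU i) q
    exact finite_H_pFree p (U i) q

theorem finH_of_input [IsNoetherianRing Λ] [IsNoetherian X] (N : ℕ) (hN : 0 < N)
    (hI : ∀ p, p.Prime → p ∣ N → Input X p) :
    ∀ (F : EtModW.Mod (R.{u} Λ) X), IsCons (A := ModuleCat.{u + 1} (R.{u} Λ)) FinMP F → N • 𝟙 F = 0 →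
      ∀ q, FinH F q := by
  haveI := isNoetherianRing_R (Λ := Λ)
  induction N using Nat.strong_induction_on with
  | _ N ih =>
    intro F hF hk q
    by_cases hN1 : N = 1
    · subst hN1
      rw [one_nsmul] at hk
      refine finH_of_subsingleton F q ⟨fun x y => ?_⟩
      have hz : ∀ z : EtCoh.H X ((fw Λ X).obj F) q, z = 0 := fun z => by
        rw [← Sheaf.H.map_id_apply (F := (fw Λ X).obj F) z, ← CategoryTheory.Functor.map_id (fw Λ X), hk,
          Functor.map_zero]
        exact H_map_zero q z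
      rw [hz x, hz y]
    obtain ⟨p, hp, c, rfl⟩ := Nat.exists_prime_and_dvd hN1
    have hc : 0 < c := Nat.pos_of_ne_zero fun e => by rw [e, mul_zero] at hN; exact lt_irrefl _ hN
    haveI := Fact.mk hp
    let t : F ⟶ F := p • 𝟙 F
    let S := ShortComplex.mk (Abelian.image.ι t) (cokernel.π t) (by
      rw [← cancel_epi (Abelian.factorThruImage t), comp_zero, ← Category.assoc, Abelian.image.fac,
        cokernel.condition])
    have hS : S.ShortExact := ⟨ShortComplex.exact_of_f_is_kernel S (kernelIsKernel (cokernel.π t))⟩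
    have hk1 : c • 𝟙 (Abelian.image t) = 0 := by
      rw [← cancel_epi (Abelian.factorThruImage t), comp_zero, ← cancel_mono (Abelian.image.ι t), zero_comp,
        Preadditive.comp_nsmul, Category.comp_id, Preadditive.nsmul_comp, Abelian.image.fac]
      show c • (p • 𝟙 F) = 0
      rw [smul_smul, mul_comm c p, hk]
    have hk3 : p • 𝟙 (cokernel t) = 0 := by
      rw [← cancel_epi (cokernel.π t), comp_zero, Preadditive.comp_nsmul, Category.comp_id,
        ← Category.id_comp (cokernel.π t), ← Preadditive.nsmul_comp]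
      exact cokernel.condition t
    exact finH_middle hS q
      (ih c (lt_mul_left hc hp.one_lt) hc (fun l hl hlc => hI l hl (dvd_mul_of_dvd_right hlc p)) _
        (consMod_of_mono (Abelian.image.ι t) hF) hk1 q)
      (finH_killed p (hI p hp (dvd_mul_right p c)) 3 q (by omega) _ (consMod_of_epi (cokernel.π t) hF) hk3)

theorem nsmul_app_ab {A B : EtCoh.Ab X} (f : A ⟶ B) (n : ℕ) (U : X.Etaleᵒᵖ) (x : A.obj.obj U) :
    (n • f).hom.app U x = n • f.hom.app U x := by
  induction n with
  | zero => rw [zero_nsmul, zero_nsmul]; rfl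
  | succ n ih => rw [succ_nsmul, succ_nsmul, ← ih]; rfl

/-- A locally killed section over a quasi-compact object is killed. -/
theorem exists_killing {F : EtCoh.Ab X} {ok : ℕ → Prop} (h1 : ok 1) (hmul : ∀ a b, ok a → ok b → ok (a * b))
    {U : X.Etale} [CompactSpace U.left] (s : F.obj.obj (op U))
    (h : ∀ x : U.left, ∃ (V : X.Etale) (g : V ⟶ U) (n : ℕ), (∃ v : V.left, g.left.base v = x) ∧ ok n ∧
      n • F.obj.map g.op s = 0) : ∃ n, ok n ∧ n • s = 0 := by
  classical
  choose V g n hv hn hs using h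
  haveI : ∀ x, AlgebraicGeometry.Etale (g x).left := fun x => etale_left (g x)
  obtain ⟨t, ht⟩ := isCompact_univ.elim_finite_subcover (fun x => Set.range (g x).left.base)
    (fun x => (g x).left.isOpenMap.isOpen_range) fun x _ => Set.mem_iUnion.2 ⟨x, hv x⟩
  refine ⟨∏ x ∈ t, n x, Finset.prod_induction _ ok hmul h1 (fun x _ => hn x),
    res_ext (A := AddCommGrpCat.{u + 1}) F _ _ fun y => ?_⟩
  obtain ⟨x, hx, v, hv'⟩ := Set.mem_iUnion₂.1 (ht (Set.mem_univ y))
  refine ⟨V x, g x, ⟨v, hv'⟩, ?_⟩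
  obtain ⟨d, hd⟩ := Finset.dvd_prod_of_mem n hx
  rw [map_nsmul, map_zero, hd, mul_comm, mul_nsmul', hs, nsmul_zero]

/-- Finite generation from generating sections. -/
theorem finite_H_of_generates [IsNoetherianRing Λ] [IsNoetherian X] (L : EtLam.Sheaf Λ X)
    {a : ℕ} (U : Fin a → X.Etale) (s : ∀ i, L.carrier.obj.obj (op (U i)))
    [∀ i, CompactSpace (U i).left] [∀ i, QuasiSeparatedSpace (U i).left]
    (hgen : ∀ (Ω : Type u) [Field Ω] [IsSepClosed Ω] (ξ : Spec (CommRingCat.of Ω) ⟶ X), Generates L ξ U s)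
    {ok : ℕ → Prop} (h1 : ok 1) (hmul : ∀ a b, ok a → ok b → ok (a * b))
    (hpos : ∀ a, ok a → 0 < a) (hI : ∀ N, ok N → ∀ p, p.Prime → p ∣ N → Input X p)
    (hkill : ∀ i, ∃ n, ok n ∧ n • s i = 0) (q : ℕ) :
    Module.Finite Λ (EtCoh.H X L.carrier q) := by
  classical
  haveI := isNoetherianRing_R (Λ := Λ)
  choose b hb using fun i => ModGenLib.exists_hom (Λ := R.{u} Λ) (N := toMod L) (U := U i) (s i)
  let w : (⨁ fun i => freeSh (R.{u} Λ) (U i)) ⟶ toMod L := biproduct.desc b
  haveI : Epi ((fw Λ X).map w) := epi_of_stalks _ fun Ω _ _ ξ => isZero_stalk_coker_of_epi _ ξ fun z => by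
    let φ := ((stk (A := AddCommGrpCat.{u + 1}) ξ).map ((fw Λ X).map w)).hom
    have hz : z ∈ φ.range := by
      refine (AddSubgroup.closure_le _).2 ?_ ((hgen Ω ξ).ge (AddSubgroup.mem_top z))
      rintro _ ⟨i, v, r, rfl⟩
      refine ⟨germ (A := AddCommGrpCat.{u + 1}) ξ ((fw Λ X).obj (⨁ fun i => freeSh (R.{u} Λ) (U i))) (U i) v ((biproduct.ι (fun i => freeSh (R.{u} Λ) (U i)) i).hom.app (op (U i))
        ((ULift.up r : R.{u} Λ) • gen (R.{u} Λ) (U i))), ?_⟩
      refine (germ_natural_apply (A := AddCommGrpCat.{u + 1}) ξ ((fw Λ X).map w) (U i) v _).trans (congrArg _ ?_)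
      show (biproduct.ι (fun i => freeSh (R.{u} Λ) (U i)) i ≫ w).hom.app (op (U i))
        ((ULift.up r : R.{u} Λ) • gen (R.{u} Λ) (U i)) = _
      rw [biproduct.ι_desc, map_smul, hb]
      rfl
    exact hz
  haveI : (fw Λ X).Faithful := inferInstance
  haveI : Epi w := (fw Λ X).epi_of_epi_map ‹_›
  have hF : IsCons (A := ModuleCat.{u + 1} (R.{u} Λ)) FinMP (toMod L) :=
    consMod_of_epi w (ModGenLib.isCons_biproduct _ fun i => ModGenLib.isCons (R.{u} Λ) (U i))
  choose n hn hns using hkill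
  let N := ∏ i, n i
  have hN : ok N := Finset.prod_induction _ ok hmul h1 (fun i _ => hn i)
  have hk : N • 𝟙 (toMod L) = 0 := by
    rw [← cancel_epi w, comp_zero, Preadditive.comp_nsmul, Category.comp_id]
    refine biproduct.hom_ext' _ _ fun i => ModGenLib.hom_ext ?_
    rw [Preadditive.comp_nsmul, comp_zero, biproduct.ι_desc, nsmul_app, hb]
    obtain ⟨d, hd⟩ := Finset.dvd_prod_of_mem n (Finset.mem_univ i)
    show N • (show L.carrier.obj.obj (op (U i)) from s i) = 0
    rw [show N = n i * d from hd, mul_comm, mul_nsmul', hns, nsmul_zero]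
  have h := finH_of_input N (hpos N hN) (hI N hN) (toMod L) hF hk q
  obtain ⟨C, act⟩ := L
  exact h

/-- From a module object to a sheaf of modules killed by some `N`. -/
theorem finite_H_of_constructible [IsNoetherianRing Λ] [IsNoetherian X] (L : EtLam.Sheaf Λ X)
    (hL : EtLam.IsConstructible L) {ok : ℕ → Prop} (h1 : ok 1) (hmul : ∀ a b, ok a → ok b → ok (a * b))
    (hpos : ∀ a, ok a → 0 < a) (hI : ∀ N, ok N → ∀ p, p.Prime → p ∣ N → Input X p)
    (hloc : ∀ (U : X.Etale) (s : L.carrier.obj.obj (op U)) (x : U.left), ∃ (V : X.Etale) (g : V ⟶ U) (n : ℕ),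
      (∃ v : V.left, g.left.base v = x) ∧ ok n ∧ n • L.carrier.obj.map g.op s = 0) (q : ℕ) :
    Module.Finite Λ (EtCoh.H X L.carrier q) := by
  obtain ⟨a, U, s, hU, hgen⟩ := exists_generates L hL
  haveI : ∀ i, CompactSpace (U i).left := fun i => haveI := hU i; inferInstance
  haveI : ∀ i, QuasiSeparatedSpace (U i).left := fun i => haveI := hU i; inferInstance
  exact finite_H_of_generates L U s hgen h1 hmul hpos hI
    (fun i => exists_killing h1 hmul (U := U i) (s i) (hloc (U i) (s i))) q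

/-- Vanishing above degree two of torsion sheaves on curves. -/
theorem subsingleton_H_of_killed (k : Type u) [Field k] [IsAlgClosed k] (f : X ⟶ Spec (CommRingCat.of k))
    [LocallyOfFiniteType f] [QuasiCompact f] (hdim : topologicalKrullDim X ≤ 1) {n : ℕ} (hn : 0 < n)
    (F : EtCoh.Ab X) (hF : n • 𝟙 F = 0) (q : ℕ) (hq : 3 ≤ q) : Subsingleton (EtCoh.H X F q) := by
  by_cases h0 : topologicalKrullDim X ≤ 0
  · haveI : IsLocallyNoetherian X := LocallyOfFiniteType.isLocallyNoetherian f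
    haveI := IsLocallyArtinian.of_topologicalKrullDim_le_zero (X := X) h0
    exact Groth.Agent.S0171.result X f F (fun x _ => isClosed_discrete _) q (by omega)
  refine Groth.Agent.S0206.result k X f ?_ F (fun U s x => ⟨U, 𝟙 U, ⟨x, rfl⟩, ?_⟩) q hq
  · refine le_antisymm hdim ?_
    revert h0
    rcases topologicalKrullDim X with _ | _ | a
    · exact fun h => absurd bot_le h
    · exact fun _ => le_top
    · intro h
      have ha : a ≠ 0 := fun e => h (by rw [e]; exact le_rfl)
      exact WithBot.coe_le_coe.2 ((Nat.cast_one (R := ℕ∞)).ge.trans (Nat.cast_le.2 (Nat.one_le_iff_ne_zero.2 ha)))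
  · refine isOfFinAddOrder_iff_nsmul_eq_zero.2 ⟨n, hn, ?_⟩
    rw [← map_nsmul]
    refine (congrArg _ ?_).trans (map_zero _)
    exact (nsmul_app_ab (𝟙 F) n (op U) s).symm.trans (congrArg (fun t : F ⟶ F => t.hom.app (op U) s) hF)

end Groth.Agent.EtLamFinLib
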