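import Groth.Prelude.Def_EtLam
import Groth.Prelude.Def_EtMod2
import Groth.Agent.EtShLib.Stalk
import Mathlib.CategoryTheory.Sites.Whiskering
import Groth.Agent.EpsLib.ModImage

/-! Module objects in abelian étale sheaves and étale sheaves of modules. -/

set_option autoImplicit false
set_option linter.unusedSectionVars false
set_option linter.style.haveILetI false
set_option backward.isDefEq.respectTransparency false
set_option backward.isDefEq.respectTransparency.types false
set_option maxHeartbeats 1000000
set_option synthInstance.maxHeartbeats 400000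

universe u

open CategoryTheory CategoryTheory.Limits AlgebraicGeometry Opposite

namespace Groth.Agent.EtLamFinLib

/-- The coefficient ring, one universe up. -/
abbrev R (Λ : Type) : Type (u + 1) := ULift.{u + 1} Λ

variable (Λ : Type) [CommRing Λ] {X : Scheme.{u}}

/-- The underlying abelian sheaf. -/
noncomputable abbrev fw (X : Scheme.{u}) : EtModW.Mod (R.{u} Λ) X ⥤ EtCoh.Ab X :=
  sheafCompose X.smallEtaleTopology (forget₂ (ModuleCat.{u + 1} (R.{u} Λ)) AddCommGrpCat.{u + 1})

variable {Λ}

/-- Scalars as endomorphisms of the underlying abelian sheaf. -/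
noncomputable def actMod (F : EtModW.Mod (R.{u} Λ) X) : Λ →+* End ((fw Λ X).obj F) where
  toFun r := ⟨{
    app := fun U => (AddCommGrpCat.ofHom (DistribSMul.toAddMonoidHom (F.obj.obj U) (ULift.up r : R.{u} Λ)) :
      AddCommGrpCat.of (F.obj.obj U) ⟶ AddCommGrpCat.of (F.obj.obj U))
    naturality := fun U V g => ConcreteCategory.hom_ext _ _ fun (x : F.obj.obj U) =>
      ((F.obj.map g).hom.map_smul _ x).symm }⟩
  map_one' := Sheaf.hom_ext (NatTrans.ext (funext fun U => ConcreteCategory.hom_ext _ _ fun (x : F.obj.obj U) =>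
    one_smul (R.{u} Λ) x))
  map_mul' r s := Sheaf.hom_ext (NatTrans.ext (funext fun U => ConcreteCategory.hom_ext _ _ fun (x : F.obj.obj U) =>
    mul_smul (ULift.up r : R.{u} Λ) (ULift.up s) x))
  map_zero' := Sheaf.hom_ext (NatTrans.ext (funext fun U => ConcreteCategory.hom_ext _ _ fun (x : F.obj.obj U) =>
    zero_smul (R.{u} Λ) x))
  map_add' r s := Sheaf.hom_ext (NatTrans.ext (funext fun U => ConcreteCategory.hom_ext _ _ fun (x : F.obj.obj U) =>
    add_smul (ULift.up r : R.{u} Λ) (ULift.up s) x))

/-- The module object underlying a sheaf of modules. -/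
noncomputable abbrev ofMod (F : EtModW.Mod (R.{u} Λ) X) : EtLam.Sheaf Λ X := ⟨(fw Λ X).obj F, actMod F⟩

/-- The module structure on sections. -/
@[instance_reducible]
noncomputable def sectModule (L : EtLam.Sheaf Λ X) (U : X.Etaleᵒᵖ) : Module (R.{u} Λ) (L.carrier.obj.obj U) where
  smul r x := (L.act r.down).hom.app U x
  one_smul x := by
    show (L.act 1).hom.app U x = x
    rw [map_one]
    rfl
  mul_smul r s x := by
    show (L.act (r.down * s.down)).hom.app U x = (L.act r.down).hom.app U ((L.act s.down).hom.app U x)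
    rw [map_mul]
    rfl
  smul_zero r := map_zero ((L.act r.down).hom.app U).hom
  smul_add r x y := map_add ((L.act r.down).hom.app U).hom x y
  add_smul r s x := by
    show (L.act (r.down + s.down)).hom.app U x = (L.act r.down).hom.app U x + (L.act s.down).hom.app U x
    rw [map_add]
    rfl
  zero_smul x := by
    show (L.act 0).hom.app U x = 0
    rw [map_zero]
    rfl

/-- The presheaf of modules underlying a module object. -/
noncomputable def toModPre (L : EtLam.Sheaf Λ X) : X.Etaleᵒᵖ ⥤ ModuleCat.{u + 1} (R.{u} Λ) where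
  obj U := letI := sectModule L U; ModuleCat.of (R.{u} Λ) (L.carrier.obj.obj U)
  map {U V} g := letI := sectModule L U; letI := sectModule L V; ModuleCat.ofHom
    { toFun := L.carrier.obj.map g
      map_add' := map_add (L.carrier.obj.map g).hom
      map_smul' := fun r x => (ConcreteCategory.congr_hom ((L.act r.down).hom.naturality g) x).symm }
  map_id U := by
    letI := sectModule L U
    exact ModuleCat.hom_ext (LinearMap.ext fun x => ConcreteCategory.congr_hom (L.carrier.obj.map_id U) x)
  map_comp {U V W} f g := by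
    letI := sectModule L U
    letI := sectModule L V
    letI := sectModule L W
    exact ModuleCat.hom_ext (LinearMap.ext fun x => ConcreteCategory.congr_hom (L.carrier.obj.map_comp f g) x)

theorem toModPre_isSheaf (L : EtLam.Sheaf Λ X) : Presheaf.IsSheaf X.smallEtaleTopology (toModPre L) := by
  refine Presheaf.isSheaf_of_isSheaf_comp _ _ (forget₂ (ModuleCat.{u + 1} (R.{u} Λ)) AddCommGrpCat.{u + 1}) ?_
  exact L.carrier.property

/-- The sheaf of modules of a module object. -/
noncomputable def toMod (L : EtLam.Sheaf Λ X) : EtModW.Mod (R.{u} Λ) X := ⟨toModPre L, toModPre_isSheaf L⟩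

theorem ofMod_toMod (L : EtLam.Sheaf Λ X) : ofMod (toMod L) = L := by
  obtain ⟨C, a⟩ := L
  rfl

theorem toMod_map_apply (L : EtLam.Sheaf Λ X) {U V : X.Etaleᵒᵖ} (g : U ⟶ V) (x : L.carrier.obj.obj U) :
    (toMod L).obj.map g x = L.carrier.obj.map g x := rfl

theorem actMod_app (F : EtModW.Mod (R.{u} Λ) X) (r : Λ) (U : X.Etaleᵒᵖ) (x : F.obj.obj U) :
    (actMod F r).hom.app U x = (ULift.up r : R.{u} Λ) • x := rfl

/-- An equivariant map of abelian sheaves is a map of sheaves of modules. -/
noncomputable def homOfEquivariant {F G : EtModW.Mod (R.{u} Λ) X} (f : (fw Λ X).obj F ⟶ (fw Λ X).obj G)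
    (h : ∀ r : Λ, actMod F r ≫ f = f ≫ actMod G r) : F ⟶ G :=
  ⟨{ app := fun U => ModuleCat.ofHom
      { toFun := f.hom.app U
        map_add' := map_add (f.hom.app U).hom
        map_smul' := fun r x => congrArg
          (fun t : (fw Λ X).obj F ⟶ (fw Λ X).obj G => t.hom.app U x) (h r.down) }
     naturality := fun U V g => by
       ext x
       exact ConcreteCategory.congr_hom (f.hom.naturality g) x }⟩

theorem fw_homOfEquivariant {F G : EtModW.Mod (R.{u} Λ) X} (f : (fw Λ X).obj F ⟶ (fw Λ X).obj G)
    (h : ∀ r : Λ, actMod F r ≫ f = f ≫ actMod G r) : (fw Λ X).map (homOfEquivariant f h) = f := rfl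

theorem fw_map_actMod {F G : EtModW.Mod (R.{u} Λ) X} (a : F ⟶ G) (r : Λ) :
    actMod F r ≫ (fw Λ X).map a = (fw Λ X).map a ≫ actMod G r :=
  Sheaf.hom_ext (NatTrans.ext (funext fun U => ConcreteCategory.hom_ext _ _ fun x =>
    (a.hom.app U).hom.map_smul (ULift.up r : R.{u} Λ) x))

instance : (fw Λ X).Additive := ⟨fun {F G f g} => Sheaf.hom_ext (NatTrans.ext (funext fun U => rfl))⟩

theorem fw_preservesFiniteLimits : PreservesFiniteLimits (fw Λ X) :=
  EpsLib.sheafU_preservesFiniteLimits (R.{u} Λ) X.smallEtaleTopology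

theorem fw_preservesFiniteColimits : PreservesFiniteColimits (fw Λ X) :=
  EpsLib.sheafU_preservesFiniteColimits (R.{u} Λ) X.smallEtaleTopology

theorem fw_map_shortExact {S : ShortComplex (EtModW.Mod (R.{u} Λ) X)} (hS : S.ShortExact) :
    (S.map (fw Λ X)).ShortExact := by
  haveI := fw_preservesFiniteLimits (Λ := Λ) (X := X)
  haveI := fw_preservesFiniteColimits (Λ := Λ) (X := X)
  exact hS.map_of_exact (fw Λ X)

end Groth.Agent.EtLamFinLib
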