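import Groth.Agent.EtLamFinLib.Bridge
import Groth.Agent.EtShLib.Constructible
import Groth.Agent.EtShLib.Generate
import Groth.Agent.EtShLib.Locus

/-! A constructible module object is generated by finitely many sections over affine étale schemes. -/

set_option autoImplicit false
set_option linter.unusedSectionVars false
set_option linter.style.haveILetI false
set_option backward.isDefEq.respectTransparency false
set_option backward.isDefEq.respectTransparency.types false
set_option maxHeartbeats 1000000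
set_option synthInstance.maxHeartbeats 400000

universe u

open CategoryTheory CategoryTheory.Limits AlgebraicGeometry Opposite Groth.Agent.EtShLib

namespace Groth.Agent.EtLamFinLib

variable {Λ : Type} [CommRing Λ] {X : Scheme.{u}}

/-- The sections `s` generate the stalk at `ξ` as a `Λ`-module. -/
def Generates (L : EtLam.Sheaf Λ X) {Ω : Type u} [Field Ω] [IsSepClosed Ω] (ξ : Spec (CommRingCat.of Ω) ⟶ X)
    {ι : Type*} (U : ι → X.Etale) (s : ∀ i, L.carrier.obj.obj (op (U i))) : Prop :=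
  AddSubgroup.closure {z : ToType ((stk (A := AddCommGrpCat.{u + 1}) ξ).obj L.carrier) |
    ∃ (i : ι) (v : Fib ξ (U i)) (r : Λ), germ ξ L.carrier (U i) v ((L.act r).hom.app _ (s i)) = z} = ⊤

theorem Generates.reindex {L : EtLam.Sheaf Λ X} {Ω : Type u} [Field Ω] [IsSepClosed Ω]
    {ξ : Spec (CommRingCat.of Ω) ⟶ X} {ι κ : Type*} {U : ι → X.Etale} {s : ∀ i, L.carrier.obj.obj (op (U i))}
    {V : κ → X.Etale} {t : ∀ i, L.carrier.obj.obj (op (V i))} (h : Generates L ξ U s)
    (e : ι → κ) (he : ∀ i, (⟨U i, s i⟩ : Σ W : X.Etale, L.carrier.obj.obj (op W)) = ⟨V (e i), t (e i)⟩) :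
    Generates L ξ V t := by
  refine top_le_iff.1 (h.ge.trans ((AddSubgroup.closure_le _).2 ?_))
  rintro z ⟨i, v, r, rfl⟩
  refine AddSubgroup.subset_closure ⟨e i, ?_⟩
  have key : ∀ (p : Σ W : X.Etale, L.carrier.obj.obj (op W)), (⟨U i, s i⟩ : Σ W : X.Etale, L.carrier.obj.obj (op W)) = p →
      ∃ (v' : Fib ξ p.1) (r' : Λ), germ ξ L.carrier p.1 v' ((L.act r').hom.app _ p.2) =
        germ ξ L.carrier (U i) v ((L.act r).hom.app _ (s i)) := by
    rintro p rfl
    exact ⟨v, r, rfl⟩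
  exact key _ (he i)

/-- Near a point of a stratum, finitely many sections generate. -/
theorem exists_generates_near (L : EtLam.Sheaf Λ X) {T : Scheme.{u}} (g : T ⟶ X) [(EtCoh.pull g).Additive]
    (hl : EtLam.IsFTLC (EtLam.pullback g L)) (t : T) :
    ∃ (O : Set T), IsOpen O ∧ t ∈ O ∧ ∃ (a : ℕ) (U : Fin a → X.Etale) (s : ∀ i, L.carrier.obj.obj (op (U i))),
      (∀ i, IsAffine (U i).left) ∧ ∀ (Ω : Type u) [Field Ω] [IsSepClosed Ω] (ζ : Spec (CommRingCat.of Ω) ⟶ T),
        ζ.base default ∈ O → Generates L (ζ ≫ g) U s := by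
  classical
  obtain ⟨ι, V, hV, hV'⟩ := hl
  obtain ⟨i, y, hy⟩ := hV t
  obtain ⟨M, iM, iM', hfin, e, he⟩ := hV' i
  let P := EtLam.pullback g L
  let η : AddCommGrpCat.of (ULift.{u + 1} M) ⟶ P.carrier.obj.obj (op (V i)) :=
    (adjO (A := AddCommGrpCat.{u + 1}) (U := V i)).homEquiv _ (P.carrier.over (V i)) e.inv
  have hcm : cmap P.carrier η = e.inv :=
    ((adjO (A := AddCommGrpCat.{u + 1}) (U := V i)).homEquiv _ (P.carrier.over (V i))).symm_apply_apply e.inv
  haveI : IsIso (cmap P.carrier η) := by rw [hcm]; infer_instance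
  have hη : IsCst P.carrier (V i) η := isCst_of_isIso
  have hact : ∀ (r : Λ) (m : ULift.{u + 1} M), (P.act r).hom.app (op (V i)) (η m) = η (r • m) := by
    intro r m
    have h1 : e.inv ≫ (T.smallEtaleTopology.overPullback AddCommGrpCat.{u + 1} (V i)).map (P.act r) =
        EtLam.constOverAct (V i) M r ≫ e.inv := by
      rw [Iso.inv_comp_eq, ← Category.assoc, Iso.eq_comp_inv]
      exact he r
    have h2 := congrArg ((adjO (A := AddCommGrpCat.{u + 1}) (U := V i)).homEquiv _ (P.carrier.over (V i))) h1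
    rw [Adjunction.homEquiv_naturality_right, EtLam.constOverAct, Adjunction.homEquiv_naturality_left] at h2
    exact ConcreteCategory.congr_hom h2 m
  obtain ⟨Ω, _, _, ζ, hζ⟩ := exists_geometric_pt t
  obtain ⟨v, -⟩ := exists_fib ζ (V i) y (hy.trans hζ.symm)
  obtain ⟨a, q, hq⟩ := Module.Finite.exists_fin (R := Λ) (M := ULift.{u + 1} M)
  have hrep : ∀ l : Fin a, ∃ (W : X.Etale) (w : Fib (ζ ≫ g) W) (x : L.carrier.obj.obj (op W)), IsAffine W.left ∧
      (stalkPull g ζ AddCommGrpCat.{u + 1}).hom.app L.carrier (germ (ζ ≫ g) L.carrier W w x) =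
        germ ζ P.carrier (V i) v (η (q l)) := by
    intro l
    obtain ⟨p, hp⟩ := (ConcreteCategory.bijective_of_isIso
      ((stalkPull g ζ AddCommGrpCat.{u + 1}).hom.app L.carrier)).2 (germ ζ P.carrier (V i) v (η (q l)))
    obtain ⟨W₀, w₀, x₀, hx⟩ := exists_germ (ζ ≫ g) p
    obtain ⟨W, k, w, hW, hw⟩ := exists_affine_below' (ζ ≫ g) W₀ w₀
    refine ⟨W, w, L.carrier.obj.map k.op x₀, hW, ?_⟩
    rw [germ_res_apply, hw, hx]
    exact hp
  choose W w x hW hx using hrep
  let b : ∀ l, P.carrier.obj.obj (op ((EtCoh.bc g).obj (W l))) := fun l =>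
    ((adjA g AddCommGrpCat.{u + 1}).unit.app L.carrier).hom.app (op (W l)) (x l)
  have hb : ∀ (l : Fin a) (Ω' : Type u) [Field Ω'] [IsSepClosed Ω'] (ζ' : Spec (CommRingCat.of Ω') ⟶ T)
      (u' : Fib (ζ' ≫ g) (W l)), germ ζ' P.carrier _ (u'.lift g ζ') (b l) =
        (stalkPull g ζ' AddCommGrpCat.{u + 1}).hom.app L.carrier (germ (ζ' ≫ g) L.carrier (W l) u' (x l)) :=
    fun l Ω' _ _ ζ' u' =>
      (ConcreteCategory.congr_hom (germ_stalkPull (A := AddCommGrpCat.{u + 1}) g ζ' L.carrier (W l) u') (x l)).symm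
  obtain ⟨Z, k, z, hzk, hZ⟩ := exists_below_list ζ (Finset.univ : Finset (Fin a)) (V i) v
    (fun {Z} k l => ∃ k' : Z ⟶ (EtCoh.bc g).obj (W l),
      P.carrier.obj.map k.op (η (q l)) = P.carrier.obj.map k'.op (b l))
    (fun k h l => by
      rintro ⟨k', hk'⟩
      refine ⟨h ≫ k', ?_⟩
      simp only [op_comp, Functor.map_comp, ConcreteCategory.comp_apply, hk'])
    (fun l _ => by
      obtain ⟨⟨Z, z⟩, k1, k2, -⟩ := IsCofilteredOrEmpty.cone_objs ((pt ζ).fiber.elementsMk (V i) v)
        ((pt ζ).fiber.elementsMk ((EtCoh.bc g).obj (W l)) ((w l).lift g ζ))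
      have e1 : Fib.map k1.1 z = v := k1.2
      have e2 : Fib.map k2.1 z = (w l).lift g ζ := k2.2
      obtain ⟨Z', h, z', hz', heq⟩ := (germ_eq_iff ζ Z z (P.carrier.obj.map k1.1.op (η (q l)))
        (P.carrier.obj.map k2.1.op (b l))).1 (by
          rw [germ_res_apply, germ_res_apply, e1, e2, hb]
          exact (hx l).symm)
      refine ⟨Z', h ≫ k1.1, z', ?_, h ≫ k2.1, ?_⟩
      · refine Eq.trans ?_ ((congrArg (Fib.map k1.1) hz').trans e1)
        simp [Fib.map]
      · simp only [op_comp, Functor.map_comp, ConcreteCategory.comp_apply]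
        exact heq)
  refine ⟨Set.range Z.hom.base, isOpen_range_etale _, ⟨z.pt, ?_⟩, a, W, x, hW, fun Ω' _ _ ζ' hζ' => ?_⟩
  · rw [← hζ]
    exact congrArg (fun f : Spec (CommRingCat.of Ω) ⟶ T => f.base default) z.w
  obtain ⟨z'⟩ := exists_fib_of_range ζ' hζ'
  let v' : Fib ζ' (V i) := z'.map k
  let θ := η ≫ germ ζ' P.carrier (V i) v'
  haveI : IsIso θ := hη Ω' ζ' v'
  rw [Generates, eq_top_iff]
  intro p _
  let σ := (stalkPull g ζ' AddCommGrpCat.{u + 1}).hom.app L.carrier
  obtain ⟨m, hm⟩ := (ConcreteCategory.bijective_of_isIso θ).2 (σ p)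
  have key : ∀ m' : ULift.{u + 1} M, m' ∈ Submodule.span Λ (Set.range q) →
      ∀ r : Λ, θ (r • m') ∈ AddSubgroup.map σ.hom (AddSubgroup.closure
        {z | ∃ (l : Fin a) (u' : Fib (ζ' ≫ g) (W l)) (r' : Λ),
          germ (ζ' ≫ g) L.carrier (W l) u' ((L.act r').hom.app _ (x l)) = z}) := by
    intro m' hm'
    induction hm' using Submodule.span_induction with
    | mem m' hm' =>
      obtain ⟨l, rfl⟩ := hm'
      intro r
      obtain ⟨k', hk'⟩ := hZ l (Finset.mem_univ _)
      let u' : Fib (ζ' ≫ g) (W l) := (z'.map k').proj g ζ'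
      refine ⟨germ (ζ' ≫ g) L.carrier (W l) u' ((L.act r).hom.app _ (x l)),
        AddSubgroup.subset_closure ⟨l, u', r, rfl⟩, ?_⟩
      have e1 : germ ζ' P.carrier (V i) v' (η (q l)) = σ (germ (ζ' ≫ g) L.carrier (W l) u' (x l)) := by
        rw [← germ_res_apply, hk', germ_res_apply]
        show germ ζ' P.carrier _ (z'.map k') (b l) = _
        rw [← hb, Fib.lift_proj]
      show σ _ = germ ζ' P.carrier (V i) v' (η (r • q l))
      rw [← hact, ← germ_natural_apply, ← germ_natural_apply, e1]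
      exact ConcreteCategory.congr_hom ((stalkPull g ζ' AddCommGrpCat.{u + 1}).hom.naturality (L.act r)) _
    | zero =>
      intro r
      rw [smul_zero]
      exact (map_zero θ.hom).symm ▸ zero_mem _
    | add m₁ m₂ _ _ h1 h2 =>
      intro r
      rw [smul_add]
      exact (map_add θ.hom _ _).symm ▸ add_mem (h1 r) (h2 r)
    | smul c m' _ h =>
      intro r
      rw [← mul_smul]
      exact h _
  obtain ⟨p', hp', hpp'⟩ := key m (hq ▸ Submodule.mem_top) 1
  rw [one_smul] at hpp'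
  rwa [← (ConcreteCategory.bijective_of_isIso σ).1 (hpp'.trans hm)]

/-- Finitely many sections over affine étale schemes generate a constructible module object. -/
theorem exists_generates [CompactSpace X] [QuasiSeparatedSpace X] (L : EtLam.Sheaf Λ X)
    (hL : EtLam.IsConstructible L) :
    ∃ (a : ℕ) (U : Fin a → X.Etale) (s : ∀ i, L.carrier.obj.obj (op (U i))), (∀ i, IsAffine (U i).left) ∧
      ∀ (Ω : Type u) [Field Ω] [IsSepClosed Ω] (ξ : Spec (CommRingCat.of Ω) ⟶ X), Generates L ξ U s := by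
  classical
  have hstep : ∀ A : {A : X.Opens // IsAffineOpen A},
      ∃ (I : Type u) (_ : Finite I) (U : I → X.Etale) (s : ∀ i, L.carrier.obj.obj (op (U i))),
        (∀ i, IsAffine (U i).left) ∧ ∀ (Ω : Type u) [Field Ω] [IsSepClosed Ω]
          (ξ : Spec (CommRingCat.of Ω) ⟶ X), ξ.base default ∈ A.1 → Generates L ξ U s := by
    rintro ⟨A, hA⟩
    obtain ⟨n, T, g, hi, hc, -, hu, hl⟩ := hL A hA
    haveI : IsAffine A.toScheme := hA
    haveI : CompactSpace ↥(A : Set X) := inferInstanceAs (CompactSpace A.toScheme)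
    haveI : QuasiSeparatedSpace ↥(A : Set X) := inferInstanceAs (QuasiSeparatedSpace A.toScheme)
    haveI : PrespectralSpace ↥(A : Set X) := inferInstanceAs (PrespectralSpace A.toScheme)
    have hT : ∀ j, CompactSpace (T j) := fun j => by
      haveI := hi j
      have hsub : Set.range (g j) ⊆ (A : Set X) := hu ▸ Set.subset_iUnion (fun j => Set.range (g j)) j
      have h1 : IsCompact (Set.range (g j)) := by
        have := (isCompact_of_isConstructible (hc j)).image continuous_subtype_val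
        rwa [Set.image_preimage_eq_inter_range, Subtype.range_coe, Set.inter_eq_left.2 hsub] at this
      exact ⟨(g j).isEmbedding.isCompact_iff.2 (by rwa [Set.image_univ])⟩
    choose O hO htO a U s haff hgen using fun (j : Fin n) (t : T j) =>
      haveI : (EtCoh.pull (g j)).Additive := (EtCoh.pullPushAdj (g j)).left_adjoint_additive
      exists_generates_near L (g j) (hl j) t
    have hcov : ∀ j, ∃ F : Finset (T j), Set.univ ⊆ ⋃ t ∈ F, O j t := fun j =>
      haveI := hT j
      isCompact_univ.elim_finite_subcover _ (hO j) fun t _ => Set.mem_iUnion.2 ⟨t, htO j t⟩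
    choose F hF using hcov
    let I : Type u := Σ p : (Σ j : Fin n, {t : T j // t ∈ F j}), ULift.{u} (Fin (a p.1 p.2.1))
    refine ⟨I, inferInstance, fun q => U q.1.1 q.1.2.1 q.2.down, fun q => s q.1.1 q.1.2.1 q.2.down,
      fun q => haff _ _ _, fun Ω _ _ ξ hξ => ?_⟩
    obtain ⟨j, hj⟩ := Set.mem_iUnion.1 (hu.ge hξ)
    haveI := hi j
    obtain ⟨ζ, rfl⟩ := exists_factor (g j) ξ hj
    obtain ⟨t, ht, htt⟩ := Set.mem_iUnion₂.1 (hF j (Set.mem_univ (ζ.base default)))
    exact (hgen j t Ω ζ htt).reindex (fun l => (⟨⟨j, t, ht⟩, ⟨l⟩⟩ : I)) fun l => rfl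
  choose I hI U s haff hgen using hstep
  obtain ⟨F, hF⟩ := isCompact_univ.elim_finite_subcover (fun A : {A : X.Opens // IsAffineOpen A} => (A.1 : Set X))
    (fun A => A.1.isOpen) fun x _ => by
      obtain ⟨A, hA, hx, -⟩ := exists_isAffineOpen_mem_and_subset (X := X) (x := x) (U := ⊤) trivial
      exact Set.mem_iUnion.2 ⟨⟨A, hA⟩, hx⟩
  haveI := hI
  let J : Type u := Σ A : {A // A ∈ F}, I A.1
  haveI : Fintype J := Fintype.ofFinite J
  let E := Fintype.equivFin J
  refine ⟨_, fun l => U (E.symm l).1.1 (E.symm l).2, fun l => s (E.symm l).1.1 (E.symm l).2,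
    fun l => haff _ _, fun Ω _ _ ξ => ?_⟩
  obtain ⟨A, hA, hAx⟩ := Set.mem_iUnion₂.1 (hF (Set.mem_univ (ξ.base default)))
  refine (hgen A Ω ξ hAx).reindex (fun l => E ⟨⟨A, hA⟩, l⟩) fun l => ?_
  exact (congrArg (fun q : J => (⟨U q.1.1 q.2, s q.1.1 q.2⟩ : Σ W : X.Etale, L.carrier.obj.obj (op W)))
    (E.symm_apply_apply ⟨⟨A, hA⟩, l⟩)).symm

end Groth.Agent.EtLamFinLib
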